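import Cfsg.Agent.Lib.U42.Data
import Cfsg.Agent.Lib.RootModels.SUPairs
import Cfsg.Agent.Lib.Unitary.Simple
import Cfsg.Agent.Lib.Unitary.Order
import Cfsg.Agent.Lib.Symplectic.Std

/-!
`PSU₄(2) ≅ PSp₄(3)`: the action on the 40 non-isotropic points is that on the 40 points of the
symplectic space.
-/

set_option autoImplicit false
set_option linter.unusedSectionVars false

namespace Cfsg.Agent.Lib.U42

open Cfsg Matrix Cfsg.Agent.Lib.Unitary

/-! ### The concrete certificate -/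

/-- `F₄` -/
structure K4 where
  v : Fin 4
deriving DecidableEq

/-- decoding -/
def kE (n : Nat) : K4 := ⟨⟨n % 4, Nat.mod_lt _ (by norm_num)⟩⟩

/-- multiplication table -/
def mulT : Fin 4 → Fin 4 → Fin 4 := ![![0, 0, 0, 0], ![0, 1, 2, 3], ![0, 2, 3, 1], ![0, 3, 1, 2]]

def k4Equiv : Fin 4 ≃ K4 := ⟨K4.mk, K4.v, fun _ => rfl, fun _ => rfl⟩

instance k4Fintype : Fintype K4 := Fintype.ofEquiv _ k4Equiv
instance k4Zero : Zero K4 := ⟨kE 0⟩
instance k4One : One K4 := ⟨kE 1⟩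
instance k4Add : Add K4 := ⟨fun a b => kE (Nat.xor a.v.val b.v.val)⟩
instance k4Mul : Mul K4 := ⟨fun a b => ⟨mulT a.v b.v⟩⟩
instance k4Neg : Neg K4 := ⟨fun a => a⟩
instance k4Inv : Inv K4 := ⟨fun a => ⟨mulT a.v a.v⟩⟩

instance k4Field : Field K4 :=
  Field.ofMinimalAxioms K4 (by decide +kernel) (by decide +kernel) (by decide +kernel)
    (by decide +kernel) (by decide +kernel) (by decide +kernel) (by decide +kernel) (by decide +kernel)
    (by decide +kernel) ⟨0, 1, by decide +kernel⟩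

theorem card_k4 : Fintype.card K4 = 4 := by
  rw [Fintype.card_congr k4Equiv.symm, Fintype.card_fin]

def digit (D n : Nat) : Nat := Nat.mod (Nat.shiftRight D (2 * n)) 4

def nVec (i : Fin 40) : Fin 4 → K4 := fun l => kE (digit nD (4 * i.val + l.val))

def vVec (s : Fin 45) : Fin 4 → K4 := fun l => kE (digit vD (4 * s.val + l.val))

def pos : Fin 2 ⊕ Fin 2 → Fin 4 := Sum.elim ![0, 1] ![2, 3]

def pVec (i : Fin 40) : Fin 2 ⊕ Fin 2 → ZMod 3 := fun l => (digit pD (4 * i.val + (pos l).val) : ℕ)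

def mMat (s : Fin 45) : Matrix (Fin 2 ⊕ Fin 2) (Fin 2 ⊕ Fin 2) (ZMod 3) :=
  Matrix.of fun a b => (digit mD (16 * s.val + 4 * (pos a).val + (pos b).val) : ℕ)

def tIdx (s : Fin 45) (i : Fin 40) : Fin 40 :=
  ⟨Nat.mod (Nat.shiftRight tD (6 * (40 * s.val + i.val))) 64 % 40, Nat.mod_lt _ (by norm_num)⟩

def herm4 (u v : Fin 4 → K4) : K4 := ∑ i, u i * (v i * v i)

theorem chk_iso : ∀ v : Fin 4 → K4, herm4 v v = 0 → v = 0 ∨
    ∃ s : Fin 45, ∃ a : K4, a ≠ 0 ∧ v = a • vVec s := by decide +kernel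

theorem chk_vVec : herm4 (vVec 0) (vVec 0) = 0 := by decide +kernel

theorem chk_move : ∀ s : Fin 45, ∀ i : Fin 40, ∃ a : K4, a ≠ 0 ∧
    nVec i + herm4 (nVec i) (vVec s) • vVec s = a • nVec (tIdx s i) ∧
    (mMat s *ᵥ pVec i = pVec (tIdx s i) ∨ mMat s *ᵥ pVec i = -pVec (tIdx s i)) := by
  decide +kernel

theorem chk_sp : ∀ s : Fin 45, mMat s * Matrix.J (Fin 2) (ZMod 3) * (mMat s)ᵀ =
    Matrix.J (Fin 2) (ZMod 3) := by decide +kernel

theorem chk_nVec : ∀ i i' : Fin 40, ∀ a : K4, a ≠ 0 → nVec i = a • nVec i' → i = i' := by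
  decide +kernel

theorem chk_basis : ∀ l : Fin 2 ⊕ Fin 2,
    pVec (eIdx (pos l)) = Pi.single l 1 ∨ pVec (eIdx (pos l)) = -Pi.single l 1 := by decide +kernel

theorem chk_one : pVec oneIdx = (fun _ => 1) ∨ pVec oneIdx = -(fun _ => 1) := by decide +kernel

theorem chk_noncentral : ∃ s : Fin 45, mMat 0 * mMat s ≠ mMat s * mMat 0 := by decide +kernel

/-! ### The isomorphism -/

variable {F K : Type*} [Field F] [Fintype F] [Field K] [Fintype K]

local notation "U" => Cfsg.SU 4 F 2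
local notation "S" => Matrix.symplecticGroup (Fin 2) K
local notation "↟" g:max =>
  ((Subtype.val g : SpecialLinearGroup (Fin 4) F) : Matrix (Fin 4) (Fin 4) F)

/-- Compatible pairs. -/
def Rel (e : K4 ≃+* F) (j : ZMod 3 ≃+* K) (g : U) (M : S) : Prop :=
  ∀ i : Fin 40, ∃ i' : Fin 40, ∃ a : F, ∃ b : K, a ≠ 0 ∧ b ≠ 0 ∧
    ↟g *ᵥ (e ∘ nVec i) = a • (e ∘ nVec i') ∧
    (M : Matrix (Fin 2 ⊕ Fin 2) (Fin 2 ⊕ Fin 2) K) *ᵥ (j ∘ pVec i) = b • (j ∘ pVec i')

variable {e : K4 ≃+* F} {j : ZMod 3 ≃+* K}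

theorem rel_mul {g g' : U} {M M' : S} (h : Rel e j g M) (h' : Rel e j g' M') :
    Rel e j (g * g') (M * M') := by
  intro i
  obtain ⟨i1, a, b, ha, hb, h1, h2⟩ := h' i
  obtain ⟨i2, a', b', ha', hb', h3, h4⟩ := h i1
  refine ⟨i2, a * a', b * b', mul_ne_zero ha ha', mul_ne_zero hb hb', ?_, ?_⟩
  · rw [show ↟(g * g') = ↟g * ↟g' from rfl, ← mulVec_mulVec, h1, mulVec_smul, h3, smul_smul]
  · rw [show ((M * M' : S) : Matrix (Fin 2 ⊕ Fin 2) (Fin 2 ⊕ Fin 2) K) = M.1 * M'.1 from rfl,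
      ← mulVec_mulVec, h2, mulVec_smul, h4, smul_smul]

theorem rel_one : Rel e j (1 : U) (1 : S) := fun i =>
  ⟨i, 1, 1, one_ne_zero, one_ne_zero, by rw [one_smul]; exact one_mulVec _,
    by rw [one_smul]; exact one_mulVec _⟩

theorem rel_pow {g : U} {M : S} (h : Rel e j g M) : ∀ k : ℕ, Rel e j (g ^ k) (M ^ k)
  | 0 => by rw [pow_zero, pow_zero]; exact rel_one
  | k + 1 => by rw [pow_succ, pow_succ]; exact rel_mul (rel_pow h k) h

theorem rel_inv [Finite U] [Finite S] {g : U} {M : S} (h : Rel e j g M) :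
    Rel e j g⁻¹ M⁻¹ := by
  have hN : orderOf g * orderOf M ≠ 0 :=
    mul_ne_zero (orderOf_pos g).ne' (orderOf_pos M).ne'
  obtain ⟨k, hk⟩ := Nat.exists_eq_succ_of_ne_zero hN
  have hg : g⁻¹ = g ^ k := inv_eq_of_mul_eq_one_right (by
    rw [← pow_succ', ← Nat.succ_eq_add_one, ← hk, pow_mul, pow_orderOf_eq_one, one_pow])
  have hM : M⁻¹ = M ^ k := inv_eq_of_mul_eq_one_right (by
    rw [← pow_succ', ← Nat.succ_eq_add_one, ← hk, mul_comm, pow_mul, pow_orderOf_eq_one, one_pow])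
  rw [hg, hM]
  exact rel_pow h k

theorem scalar_of_rel_one {M : S} (h : Rel e j (1 : U) M) : M ∈ Subgroup.center S := by
  have hfix : ∀ i, ∃ b : K, (M : Matrix (Fin 2 ⊕ Fin 2) (Fin 2 ⊕ Fin 2) K) *ᵥ (j ∘ pVec i) =
      b • (j ∘ pVec i) := by
    intro i
    obtain ⟨i', a, b, ha, -, h1, h2⟩ := h i
    have h1' : (e ∘ nVec i) = a • (e ∘ nVec i') := (one_mulVec _).symm.trans h1
    have hi : i = i' := chk_nVec i i' (e.symm a) (by simpa using ha) (funext fun l => e.injective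
      (by simpa using congrFun h1' l))
    exact ⟨b, by rw [h2, ← hi]⟩
  have hbasis : ∀ l : Fin 2 ⊕ Fin 2, ∃ b : K,
      (M : Matrix (Fin 2 ⊕ Fin 2) (Fin 2 ⊕ Fin 2) K) *ᵥ Pi.single l 1 = b • Pi.single l 1 := by
    intro l
    obtain ⟨b, hb⟩ := hfix (eIdx (pos l))
    have hj : (j ∘ pVec (eIdx (pos l))) = Pi.single l 1 ∨
        (j ∘ pVec (eIdx (pos l))) = -Pi.single l 1 := by
      rcases chk_basis l with hl | hl <;> rw [hl]
      · left; funext x; by_cases hx : x = l <;> simp [hx]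
      · right; funext x; by_cases hx : x = l <;> simp [hx]
    refine ⟨b, ?_⟩
    rcases hj with hj | hj <;> rw [hj] at hb
    · exact hb
    · rwa [mulVec_neg, smul_neg, neg_inj] at hb
  choose b hb using hbasis
  obtain ⟨c, hc⟩ := hfix oneIdx
  have hc' : (M : Matrix (Fin 2 ⊕ Fin 2) (Fin 2 ⊕ Fin 2) K) *ᵥ (fun _ => 1) =
      c • (fun _ => 1 : Fin 2 ⊕ Fin 2 → K) := by
    have hj : (j ∘ pVec oneIdx) = (fun _ => 1) ∨ (j ∘ pVec oneIdx) = -(fun _ => 1) := by
      rcases chk_one with hl | hl <;> rw [hl]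
      · left; funext x; simp
      · right; funext x; simp
    rcases hj with hj | hj <;> rw [hj] at hc
    · exact hc
    · rwa [mulVec_neg, smul_neg, neg_inj] at hc
  have hent : ∀ a l : Fin 2 ⊕ Fin 2, (M : Matrix (Fin 2 ⊕ Fin 2) (Fin 2 ⊕ Fin 2) K) a l =
      if a = l then b l else 0 := by
    intro a l
    have := congrFun (hb l) a
    rw [mulVec_single_one] at this
    simpa [Pi.single_apply] using this
  have hbc : ∀ l, b l = c := by
    intro l
    have := congrFun hc' l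
    simpa [mulVec, dotProduct, hent, Finset.sum_ite_eq] using this
  rw [Subgroup.mem_center_iff]
  intro X
  have hM : (M : Matrix (Fin 2 ⊕ Fin 2) (Fin 2 ⊕ Fin 2) K) = c • 1 := by
    ext a l
    rw [hent, hbc]
    simp [Matrix.one_apply]
  apply Subtype.ext
  show (X : Matrix (Fin 2 ⊕ Fin 2) (Fin 2 ⊕ Fin 2) K) * M.1 = M.1 * X.1
  rw [hM, mul_smul_comm, smul_mul_assoc, mul_one, one_mul]

theorem rel_unique [Finite U] [Finite S] {g : U} {M M' : S} (h : Rel e j g M)
    (h' : Rel e j g M') : (M : PSp 2 K) = M' := by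
  rw [QuotientGroup.eq]
  refine scalar_of_rel_one (e := e) (j := j) ?_
  have := rel_mul (rel_inv h) h'
  rwa [inv_mul_cancel] at this

theorem herm_map (x y : Fin 4 → K4) :
    hermForm 4 F 2 (e ∘ x) (e ∘ y) = e (herm4 x y) := by
  simp [hermForm, herm4, map_sum, sq]

theorem mMat_mem (s : Fin 45) : (mMat s).map j ∈ Matrix.symplecticGroup (Fin 2) K := by
  rw [SymplecticGroup.mem_iff]
  have h := congrArg (fun A : Matrix (Fin 2 ⊕ Fin 2) (Fin 2 ⊕ Fin 2) (ZMod 3) => A.map j)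
    (chk_sp s)
  have hJ : (Matrix.J (Fin 2) (ZMod 3)).map j = Matrix.J (Fin 2) K := by
    ext a b
    rcases a with a | a <;> rcases b with b | b <;> simp [Matrix.J, Matrix.one_apply, apply_ite]
  simpa only [Matrix.map_mul, Matrix.transpose_map, hJ] using h

/-- The matrix attached to the `s`-th transvection. -/
def spElt (j : ZMod 3 ≃+* K) (s : Fin 45) : S := ⟨(mMat s).map j, mMat_mem s⟩

theorem rel_tv {g : U} {s : Fin 45}
    (hg : ∀ x, ↟g *ᵥ x = x + hermForm 4 F 2 x (e ∘ vVec s) • (e ∘ vVec s)) :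
    Rel e j g (spElt j s) := by
  intro i
  obtain ⟨a, ha, h1, h2⟩ := chk_move s i
  refine ⟨tIdx s i, e a, ?_⟩
  have hl : ↟g *ᵥ (e ∘ nVec i) = e a • (e ∘ nVec (tIdx s i)) := by
    rw [hg, herm_map]
    funext l
    have := congrArg e (congrFun h1 l)
    simpa using this
  have hm : (mMat s).map j *ᵥ (j ∘ pVec i) = j ∘ (mMat s *ᵥ pVec i) :=
    funext fun l => (RingHom.map_mulVec j.toRingHom (mMat s) (pVec i) l).symm
  rcases h2 with h2 | h2
  · refine ⟨1, by simpa using ha, one_ne_zero, hl, ?_⟩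
    rw [one_smul]
    show (mMat s).map j *ᵥ _ = _
    rw [hm, h2]
  · refine ⟨-1, by simpa using ha, neg_ne_zero.2 one_ne_zero, hl, ?_⟩
    show (mMat s).map j *ᵥ _ = _
    rw [hm, h2]
    funext l
    simp

theorem exists_rel [Finite U] [Finite S] (hF : Fintype.card F = 2 ^ 2) (g : U) :
    ∃ M : S, Rel e j g M := by
  let Γ : Subgroup U :=
    { carrier := {g | ∃ M : S, Rel e j g M}
      one_mem' := ⟨1, rel_one⟩
      mul_mem' := fun ⟨M, hM⟩ ⟨M', hM'⟩ => ⟨M * M', rel_mul hM hM'⟩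
      inv_mem' := fun ⟨M, hM⟩ => ⟨M⁻¹, rel_inv hM⟩ }
  suffices h : Γ = ⊤ by exact (h ▸ Subgroup.mem_top g : g ∈ Γ)
  rw [eq_top_iff, ← suTransvections_closure hF (by norm_num) (by norm_num), Subgroup.closure_le]
  rintro A ⟨v, c, hv, hc, hA⟩
  have hA' : ∀ x, ↟A *ᵥ x = x + (c * hermForm 4 F 2 x v) • v := hA
  by_cases hc0 : c = 0
  · have : A = 1 := by
      refine Subtype.ext (Subtype.ext (Matrix.mulVec_injective (funext fun x => ?_)))
      show _ *ᵥ x = _ *ᵥ x
      rw [hA', hc0, zero_mul, zero_smul, add_zero]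
      exact (one_mulVec x).symm
    rw [this]; exact Γ.one_mem
  have hv0 : herm4 (e.symm ∘ v) (e.symm ∘ v) = 0 := e.injective (by
    rw [← herm_map, map_zero, ← hv]
    congr 1 <;> funext l <;> simp)
  rcases chk_iso _ hv0 with h0 | ⟨s, a, ha, hs⟩
  · have hv' : v = 0 := funext fun l => by simpa using congrArg e (congrFun h0 l)
    have : A = 1 := by
      refine Subtype.ext (Subtype.ext (Matrix.mulVec_injective (funext fun x => ?_)))
      show _ *ᵥ x = _ *ᵥ x
      rw [hA', hv', smul_zero, add_zero]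
      exact (one_mulVec x).symm
    rw [this]; exact Γ.one_mem
  have hv' : v = e a • (e ∘ vVec s) := funext fun l => by simpa using congrArg e (congrFun hs l)
  have hc1 : c = 1 := by
    have h2 : (2 : F) = 0 := by
      have : ((4 : ℕ) : F) = 0 := by
        rw [show (4 : ℕ) = Fintype.card F by rw [hF]; norm_num]; exact FiniteField.cast_card_eq_zero F
      push_cast at this
      exact mul_self_eq_zero.1 (by linear_combination this)
    have h3 : c * (1 + c) = 0 := by linear_combination hc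
    linear_combination ((mul_eq_zero.1 h3).resolve_left hc0) - h2
  have ha3 : e a ^ 3 = 1 := by
    have : ∀ x : K4, x ≠ 0 → x ^ 3 = 1 := by decide +kernel
    rw [← map_pow, this a ha, map_one]
  refine ⟨spElt j s, rel_tv fun x => ?_⟩
  rw [hA', hc1, one_mul, hv', herm_smul_right, smul_smul]
  congr 2
  linear_combination (hermForm 4 F 2 x (e ∘ vVec s)) * ha3

theorem iso (hF : Fintype.card F = 4) (hK : Fintype.card K = 3) :
    Nonempty (Cfsg.PSU 4 F 2 ≃* Cfsg.PSp 2 K) := by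
  classical
  have hF2 : Fintype.card F = 2 ^ 2 := hF.trans (by norm_num)
  let e : K4 ≃+* F := FiniteField.ringEquivOfCardEq (card_k4.trans hF.symm)
  let j : ZMod 3 ≃+* K := FiniteField.ringEquivOfCardEq ((ZMod.card 3).trans hK.symm)
  choose φ hφ using fun g : U => exists_rel (e := e) (j := j) hF2 g
  let f : U →* PSp 2 K := MonoidHom.mk' (fun g => (φ g : PSp 2 K)) fun g g' => by
    rw [← QuotientGroup.mk_mul]
    exact rel_unique (hφ _) (rel_mul (hφ g) (hφ g'))
  have hv0 : hermForm 4 F 2 (e ∘ vVec 0) (e ∘ vVec 0) = 0 := by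
    rw [herm_map, chk_vVec, map_zero]
  have h11 : (1 : F) + 1 ^ 2 = 0 := by
    have : (1 : K4) + 1 ^ 2 = 0 := by decide +kernel
    simpa using congrArg e this
  let t : U := RootModels.SUPairs.tv hF2 hv0 1 h11
  have ht : Rel e j t (spElt j 0) := rel_tv fun x => by
    show RootModels.tm _ _ *ᵥ x = _
    rw [RootModels.SUPairs.tm_herm, mul_one]
  have hft : f t ≠ 1 := by
    intro h
    have h1 : (φ t : PSp 2 K) = (spElt j 0 : PSp 2 K) := rel_unique (hφ t) ht
    have h2 : spElt j 0 ∈ Subgroup.center S := by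
      rw [← QuotientGroup.eq_one_iff, ← h1]; exact h
    obtain ⟨s, hs⟩ := chk_noncentral
    have h3 := congrArg Subtype.val (Subgroup.mem_center_iff.1 h2 (spElt j s))
    have h4 : ((mMat s) * mMat 0).map j = ((mMat 0) * mMat s).map j := by
      rw [Matrix.map_mul, Matrix.map_mul]; exact h3
    exact hs (Matrix.map_injective j.injective h4).symm
  have hZ : Subgroup.center U = ⊥ := Subgroup.card_eq_one.1 (by
    rw [card_center_SU hF2 (by norm_num)]; norm_num)
  have hs := isSimpleGroup_PSU (n := 4) hF2 (by norm_num) (by norm_num)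
  let f' : PSU 4 F 2 →* PSp 2 K := QuotientGroup.lift (Subgroup.center U) f (by rw [hZ]; exact bot_le)
  have hinj : Function.Injective f' := by
    rw [← MonoidHom.ker_eq_bot_iff]
    refine (Subgroup.Normal.eq_bot_or_eq_top (MonoidHom.normal_ker f')).resolve_right fun h => hft ?_
    have : f' (t : PSU 4 F 2) = 1 := MonoidHom.mem_ker.1 (h ▸ Subgroup.mem_top _)
    exact this
  have hcard : Nat.card (PSU 4 F 2) = Nat.card (PSp 2 K) := by
    have h1 := card_PSU (n := 4) hF2 (by norm_num)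
    have h2 := card_SU (n := 4) hF2 (by norm_num)
    have h3 := card_GU (q := 2) hF2 4
    have h4 := Symplectic.card_psp (F := K) (q := 3) (Nat.card_eq_fintype_card.trans hK) (m := 2)
      (by norm_num)
    norm_num [Finset.prod_range_succ, Nat.even_iff] at h1 h3 h4
    simp only [Nat.card_eq_fintype_card] at h1 h2 h3 h4 ⊢
    omega
  exact ⟨MulEquiv.ofBijective f' ((Nat.bijective_iff_injective_and_card f').2 ⟨hinj, hcard⟩)⟩

end Cfsg.Agent.Lib.U42
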